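import Groth.Agent.RedRankLib.Fam
import Groth.Agent.TransporterLib.SubMain
import Groth.Agent.RedCharZeroLib.TorusSplit
import Groth.Agent.DiagRepLib.Split
import Groth.Agent.MultSubLib.Basic
import Groth.Agent.AlgSpLib.Sep

/-!
Families of homomorphisms out of a diagonalisable group factoring through a closed subgroup.
-/

set_option autoImplicit false
set_option backward.isDefEq.respectTransparency false
set_option linter.style.haveILetI false
set_option synthInstance.maxHeartbeats 400000

noncomputable section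

universe u

open CategoryTheory CategoryTheory.Limits MonoidalCategory CartesianMonoidalCategory AlgebraicGeometry
open scoped MonObj

attribute [-instance] CategoryTheory.Hom.commGroup

namespace Groth.Agent.FamFactor

open Groth.Agent.RedRank (homOf comp_homOf proj pobj piso piso_hom_comp bcEquiv_lift bcEquiv_one)
open Groth.Agent.HomRep (bcEquiv bcEquiv_mul)

variable {S : Scheme.{u}}

theorem locally_bc_DS (M : Type) [AddCommGroup M] {T : Scheme.{u}} (f : T ⟶ S) :
    TwC.Locally T TwC.Topology.fpqc (fun S' g => ∃ (N : Type) (_ : AddCommGroup N),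
      Nonempty (Grp.mk (Red.bc g (Red.bc f (Red.DS S M))) ≅ Grp.mk (Red.DS S' N))) := by
  refine ⟨T, 𝟙 T, inferInstance, inferInstance, MultSubLib.hcov_id T, fun x => ⟨⊤, trivial, M, inferInstance, ?_⟩⟩
  let g := (⊤ : T.Opens).ι ≫ 𝟙 T
  obtain ⟨e₁, he₁⟩ := RedCharZeroLib.exists_DS_bc g M (S' := T)
  obtain ⟨e₂, he₂⟩ := RedCharZeroLib.exists_DS_bc f M (S' := S)
  haveI := he₁
  haveI := he₂
  haveI : IsMonHom (M := Red.bc g (Red.DS T M)) (N := Red.bc g (Red.bc f (Red.DS S M))) ((Over.pullback g).map e₂.hom) :=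
    Groth.Agent.DiagRep.isMonHom_bc_map g e₂.hom
  let e := e₁ ≪≫ (Over.pullback g).mapIso e₂
  haveI : IsMonHom e.hom := inferInstanceAs (IsMonHom (e₁.hom ≫ (Over.pullback g).map e₂.hom))
  haveI : IsMonHom e.symm.hom := inferInstanceAs (IsMonHom e.inv)
  exact ⟨Grp.mkIso e.symm (IsMonHom.one_hom e.symm.hom) (IsMonHom.mul_hom e.symm.hom)⟩

/-- Composing the universal family with a closed immersion gives a closed immersion of the representing schemes. -/
theorem isClosedImmersion_induced {M : Type} [AddCommGroup M] {H G : Over S} [GrpObj H] [GrpObj G]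
    [LocallyOfFiniteType G.hom] [LocallyOfFinitePresentation H.hom] (k : H ⟶ G) [IsMonHom k]
    [IsClosedImmersion k.left] {AH AG : Over S} {υH : Red.DS S M ⊗ AH ⟶ H}
    (hAH : AutFam.RepresentsHom (Red.DS S M) H AH υH) {υG : Red.DS S M ⊗ AG ⟶ G}
    (hAG : AutFam.RepresentsHom (Red.DS S M) G AG υG) (φ : AH ⟶ AG) (hφ : (Red.DS S M ◁ φ) ≫ υG = υH ≫ k) :
    IsClosedImmersion φ.left ∧ LocallyOfFinitePresentation φ.left := by
  let D := Red.DS S M
  let z : Red.bc AG.hom H ⟶ Red.bc AG.hom G := (Over.pullback AG.hom).map k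
  haveI : LocallyOfFinitePresentation k.left := by
    haveI : LocallyOfFinitePresentation (k.left ≫ G.hom) := by rw [Over.w k]; infer_instance
    exact AlgSpLib.lfp_of_comp_lft k.left G.hom
  haveI : Mono k := Over.mono_of_mono_left _
  haveI : Mono z := by
    haveI : (Over.pullback AG.hom).IsRightAdjoint := (Over.mapPullbackAdj AG.hom).isRightAdjoint
    infer_instance
  have sqz : IsPullback z.left (pullback.fst H.hom AG.hom) (pullback.fst G.hom AG.hom) k.left := by
    have hz : z.left = pullback.lift (pullback.fst H.hom AG.hom ≫ k.left) (pullback.snd H.hom AG.hom)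
        (by rw [Category.assoc, Over.w k, pullback.condition]) := rfl
    refine IsPullback.of_bot (v₂₁ := pullback.snd G.hom AG.hom) (v₂₂ := G.hom) (h₃₁ := AG.hom) ?_ ?_ ?_ |>.flip
    · rw [hz, pullback.lift_snd, Over.w k]
      exact IsPullback.of_hasPullback H.hom AG.hom
    · rw [hz, pullback.lift_fst]
    · exact IsPullback.of_hasPullback G.hom AG.hom
  haveI : IsClosedImmersion z.left := MorphismProperty.of_isPullback (P := @IsClosedImmersion) sqz.flip ‹_›
  haveI : LocallyOfFinitePresentation z.left :=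
    MorphismProperty.of_isPullback (P := @LocallyOfFinitePresentation) sqz.flip ‹_›
  obtain ⟨T₁, j₁, hj₁c, hj₁f, hj₁⟩ := Groth.Agent.Transporter.exists_subTransporter
    (locally_bc_DS M AG.hom) (homOf υG) z
  haveI := hj₁c
  haveI := hj₁f
  let one : 𝟙_ (Over AG.left) ⟶ Red.bc AG.hom G := η[Red.bc AG.hom G]
  let W : Over AG.left := Over.mk (pullback.snd j₁.left one.left)
  let w₁ : W ⟶ T₁ := Over.homMk (pullback.fst j₁.left one.left) (by
    show pullback.fst _ _ ≫ T₁.hom = pullback.snd j₁.left one.left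
    rw [← Over.w j₁, pullback.condition_assoc, Over.w one]
    exact Category.comp_id _)
  haveI : IsClosedImmersion W.hom := MorphismProperty.pullback_snd (P := @IsClosedImmersion) _ _ ‹_›
  haveI : LocallyOfFinitePresentation W.hom :=
    MorphismProperty.pullback_snd (P := @LocallyOfFinitePresentation) _ _ ‹_›
  have hw₁ : w₁ ≫ j₁ = 1 := by
    rw [Hom.one_def]
    refine Over.OverMorphism.ext ?_
    show pullback.fst j₁.left one.left ≫ j₁.left = (toUnit W).left ≫ one.left
    rw [pullback.condition]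
    exact congrArg (· ≫ one.left) ((Category.comp_id _).symm.trans (Over.w (toUnit W))).symm
  -- the family over the locus factors through the subgroup
  let WS : Over S := (Over.map AG.hom).obj W
  let jW : WS ⟶ AG := proj AG W
  have hWf : ∃ l : D ⊗ WS ⟶ H, l ≫ k = (D ◁ jW) ≫ υG := by
    let Y := pobj (snd D WS ≫ jW)
    let y : Y ⟶ W := Over.homMk (snd D WS).left rfl
    obtain ⟨k', hk'⟩ := (hj₁ W 1).1 ⟨w₁, hw₁⟩ Y y (bcEquiv AG.hom D Y ((piso _).hom ≫ fst D WS))
    rw [MonObj.comp_one, one_mul, inv_one, mul_one, comp_homOf, Equiv.symm_apply_apply] at hk'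
    refine ⟨(piso (snd D WS ≫ jW)).inv ≫ (bcEquiv AG.hom H Y).symm k', ?_⟩
    rw [Category.assoc, Iso.inv_comp_eq]
    refine (bcEquiv AG.hom G Y).injective ?_
    rw [show bcEquiv AG.hom G Y ((bcEquiv AG.hom H Y).symm k' ≫ k) = k' ≫ z from
      (Adjunction.homEquiv_naturality_right (Over.mapPullbackAdj AG.hom) _ k).trans (by rw [Equiv.apply_symm_apply]),
      hk', ← piso_hom_comp, ← comp_lift_assoc]
    congr 2
  obtain ⟨l, hl⟩ := hWf
  have hlf : AutFam.IsHomFamily D H l := fun Y a b t => by
    rw [← cancel_mono k, MonObj.mul_comp, Category.assoc, Category.assoc, Category.assoc, hl]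
    exact RepDescLib.isHomFamily_comp _ _ jW hAG.1 Y a b t
  obtain ⟨b, hb, -⟩ := hAH.2 WS l hlf
  have hbj : b ≫ φ = jW := by
    obtain ⟨c, -, hu⟩ := hAG.2 WS ((D ◁ jW) ≫ υG) (RepDescLib.isHomFamily_comp _ _ jW hAG.1)
    refine (hu _ ?_).trans (hu _ rfl).symm
    beta_reduce
    rw [whiskerLeft_comp_assoc, hφ, ← Category.assoc, hb, hl]
  -- the induced map lands in the locus
  let X : Over AG.left := pobj φ
  obtain ⟨t, ht⟩ := (hj₁ X 1).2 fun Y x h => by
    let x' : (Over.map AG.hom).obj Y ⟶ AH := (Over.map AG.hom).map x ≫ (piso φ).hom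
    refine ⟨bcEquiv AG.hom H Y (lift ((bcEquiv AG.hom D Y).symm h) x' ≫ υH), ?_⟩
    rw [MonObj.comp_one, one_mul, inv_one, mul_one, comp_homOf,
      show bcEquiv AG.hom H Y (lift ((bcEquiv AG.hom D Y).symm h) x' ≫ υH) ≫ z =
        bcEquiv AG.hom G Y ((lift ((bcEquiv AG.hom D Y).symm h) x' ≫ υH) ≫ k) from
        (Adjunction.homEquiv_naturality_right (Over.mapPullbackAdj AG.hom) _ k).symm,
      Category.assoc, ← hφ, lift_whiskerLeft_assoc]
    congr 3
    rw [Category.assoc, piso_hom_comp]
    exact Over.OverMorphism.ext (Over.w x)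
  have ha : t.left ≫ j₁.left = φ.left ≫ one.left := by
    rw [← Over.comp_left, ht, Hom.one_def, Over.comp_left]
    exact congrArg (· ≫ one.left) ((Category.comp_id _).symm.trans (Over.w (toUnit X)))
  let a : AH.left ⟶ W.left := pullback.lift t.left φ.left ha
  have hφW : φ.left = a ≫ W.hom := (pullback.lift_snd _ _ _).symm
  haveI : Mono φ := ⟨fun {Y} c d e => by
    obtain ⟨c₀, -, hu⟩ := hAH.2 Y ((D ◁ c) ≫ υH) (RepDescLib.isHomFamily_comp _ _ c hAH.1)
    refine (hu c rfl).trans (hu d ?_).symm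
    beta_reduce
    rw [← cancel_mono k, Category.assoc, Category.assoc, ← hφ, ← whiskerLeft_comp_assoc, ← whiskerLeft_comp_assoc, e]⟩
  let a' : AH ⟶ WS := Over.homMk a (by
    show a ≫ W.hom ≫ AG.hom = AH.hom
    rw [← Category.assoc, ← hφW, Over.w φ])
  haveI : Mono jW := by
    haveI : Mono jW.left := inferInstanceAs (Mono W.hom)
    exact Over.mono_of_mono_left _
  have haj : a' ≫ jW = φ := Over.OverMorphism.ext hφW.symm
  haveI : IsIso a' := ⟨b, by rw [← cancel_mono φ, Category.assoc, hbj, haj, Category.id_comp],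
    by rw [← cancel_mono jW, Category.assoc, haj, hbj, Category.id_comp]⟩
  haveI : IsIso a := inferInstanceAs (IsIso ((Over.forget S).map a'))
  rw [hφW]
  exact ⟨inferInstance, inferInstance⟩

end Groth.Agent.FamFactor
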